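import Groth.Agent.PicH1Lib.SqLES
import Groth.Agent.VertChiLib.PicTorsion
import Groth.Agent.PicPnLib.Rel
import Groth.Agent.CohTopLib.Vanishing

/-!
# Roots of classes trivial on an intermediate thickening

For two square zero ideals `I ⊆ J` with `I = N J` on a scheme of cohomological dimension at most one,
a class killed by restriction to `V(I)` is the `N`-th power of a class killed by restriction to `V(J)`.
-/

set_option autoImplicit false
set_option backward.isDefEq.respectTransparency false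
set_option linter.style.haveILetI false
universe u

open CategoryTheory CategoryTheory.Limits AlgebraicGeometry TopologicalSpace Opposite CategoryTheory.Abelian

noncomputable section

namespace PicThkLib

open PicH1Lib (eps idVal onePlus)

theorem comp_mk₀_nsmul {C : Type*} [Category C] [Abelian C] [HasExt.{u} C] {W F G : C} {i : ℕ} (o : Ext W F i)
    (φ : F ⟶ G) (n : ℕ) : o.comp (Ext.mk₀ (n • φ)) (add_zero i) = n • o.comp (Ext.mk₀ φ) (add_zero i) := by
  induction n with
  | zero => rw [zero_smul, zero_smul, Ext.mk₀_zero, Ext.comp_zero]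
  | succ m ih => rw [succ_nsmul, succ_nsmul, Ext.mk₀_add, Ext.comp_add, ih]

/-- Classes killed by a closed immersion are killed by the subscheme of its ideal. -/
theorem pullHom_ker_eq_one {Z T : Scheme.{u}} (j : Z ⟶ T) [IsClosedImmersion j] [PicGrp.Law T] [PicGrp.Law Z]
    [PicGrp.Law j.ker.subscheme] (hj : PicGrp.PullMul j) (hi : PicGrp.PullMul j.ker.subschemeι)
    {c : PicLoc.PicSet T} (hc : PicGrp.pullHom j hj c = 1) : PicGrp.pullHom j.ker.subschemeι hi c = 1 := by
  obtain ⟨L, hL, rfl⟩ := PicGrp.exists_eq_cls c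
  rw [PicGrp.pullHom_cls, PicGrp.cls_eq_one_iff] at hc ⊢
  obtain ⟨e⟩ := hc
  haveI : IsIso j.toImage := inferInstance
  exact PicPnLib.iso_of_pb_iso j.toImage
    ((Scheme.Modules.pullbackComp _ _).app L ≪≫ (Scheme.Modules.pullbackCongr j.toImage_imageι).app L ≪≫ e ≪≫
      (KFlatLib.pullUnitIso j.toImage).symm)

variable {T : Scheme.{u}} {I J : T.IdealSheafData} (hI : I * I = ⊥) (hJ : J * J = ⊥)

theorem nsmul_id_app {T : Scheme.{u}} (n : ℕ) (V : T.Opens) (a : Γ(T, V)) :
    Scheme.Modules.Hom.app (n • 𝟙 (Coh.structureModule T)) V a = (n : Γ(T, V)) * a := by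
  induction n with
  | zero => rw [zero_smul, Nat.cast_zero, zero_mul]; rfl
  | succ m ih =>
    rw [succ_nsmul, Nat.cast_succ, add_mul, one_mul]
    exact congrArg (· + a) ih

theorem natLift_zero (K : T.IdealSheafData) (n : ℕ) (h : ∀ V : T.Opens, K.subschemeι.app V (n : Γ(T, V)) = 0) :
    (n • 𝟙 (Coh.structureModule T)) ≫ ClSub.toSubscheme K = 0 := by
  refine Scheme.Modules.hom_ext _ _ fun V => AddCommGrpCat.ext fun s => ?_
  show K.subschemeι.app V (Scheme.Modules.Hom.app (n • 𝟙 (Coh.structureModule T)) V (show Γ(T, V) from s)) = 0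
  refine (congrArg (fun t : Γ(T, V) => K.subschemeι.app V t) (nsmul_id_app n V s)).trans ?_
  rw [map_mul, h, zero_mul]

/-- Multiplication by `n` on the structure sheaf, lifted into an ideal killing `n`. -/
def natLift (K : T.IdealSheafData) (n : ℕ) (h : ∀ V : T.Opens, K.subschemeι.app V (n : Γ(T, V)) = 0) :
    Coh.structureModule T ⟶ ClSub.idealMod K :=
  kernel.lift _ (n • 𝟙 (Coh.structureModule T)) (natLift_zero K n h)

theorem idVal_natLift (K : T.IdealSheafData) (n : ℕ) (h : ∀ V : T.Opens, K.subschemeι.app V (n : Γ(T, V)) = 0)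
    (V : T.Opens) (a : Γ(T, V)) : idVal K ((natLift K n h).app V a) = (n : Γ(T, V)) * a :=
  (ConcreteCategory.congr_hom (congrArg (fun φ => Scheme.Modules.Hom.app φ V)
    (kernel.lift_ι (ClSub.toSubscheme K) _ (natLift_zero K n h))) a).trans (nsmul_id_app n V a)

variable (hd : topologicalKrullDim T ≤ 1) [NoetherianSpace T]

include hd in
/-- Epimorphisms of abelian sheaves are surjective on `H¹`. -/
theorem surjective_H1 {F G : QCohLib.AbSh T.toTopCat} (g : F ⟶ G) [Epi g] (x : QCohLib.HU G 1 ⊤) :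
    ∃ o : QCohLib.HU F 1 ⊤, o.comp (Ext.mk₀ g) (add_zero 1) = x := by
  have hS : (ShortComplex.mk (kernel.ι g) g (kernel.condition g)).ShortExact :=
    { exact := ShortComplex.exact_of_f_is_kernel _ (kernelIsKernel g) }
  haveI : Subsingleton (QCohLib.HU (kernel g) 2 ⊤) :=
    (QCohLib.subsingleton_H_iff (kernel g) 2).mp (CohTopLib.subsingleton_H_of_dim_le 1 hd (kernel g) 2 one_lt_two)
  exact Ext.covariant_sequence_exact₃ (QCohLib.zsh ⊤) hS x rfl (Subsingleton.elim _ _)

variable [PicGrp.Law T] [PicGrp.Law I.subscheme] [PicGrp.Law J.subscheme]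

include hI hJ hd in
/-- The root of a class killed on the smaller ideal. -/
theorem exists_root (a N b : ℕ) (hab : a = N * b) (hIa : ∀ V : T.Opens, I.subschemeι.app V (a : Γ(T, V)) = 0)
    (hJb : ∀ V : T.Opens, J.subschemeι.app V (b : Γ(T, V)) = 0)
    (hgen : ∀ (V : T.Opens) (s : Γ(T, V)), I.subschemeι.app V s = 0 → ∀ x ∈ V, ∃ (W : T.Opens) (hW : W ≤ V),
      x ∈ W ∧ ∃ q : Γ(T, W), T.presheaf.map (homOfLE hW).op s = (a : Γ(T, W)) * q)
    (hi : PicGrp.PullMul I.subschemeι) (hj : PicGrp.PullMul J.subschemeι) {c : PicLoc.PicSet T}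
    (hc : PicGrp.pullHom I.subschemeι hi c = 1) :
    ∃ e : PicLoc.PicSet T, PicGrp.pullHom J.subschemeι hj e = 1 ∧ e ^ N = c := by
  let gI := (QCohLib.toAbF T).map (natLift I a hIa)
  let gJ := (QCohLib.toAbF T).map (natLift J b hJb)
  haveI : Epi gI := by
    refine (Sheaf.isLocallySurjective_iff_epi' (φ := gI)).mp ?_
    refine (TopCat.Presheaf.isLocallySurjective_iff gI.hom).mpr fun V s x hx => ?_
    obtain ⟨W, hW, hxW, q, hq⟩ := hgen V (idVal I (V := V) s) (PicH1Lib.app_idVal I s) x hx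
    refine ⟨W, hW, ⟨q, ?_⟩, hxW⟩
    refine PicH1Lib.idVal_injective I W ?_
    refine (idVal_natLift I a hIa W q).trans (hq.symm.trans ?_)
    exact (ConcreteCategory.congr_hom ((ClSub.idealModι I).mapPresheaf.naturality (homOfLE hW).op) s).symm
  have key : gI ≫ eps hI = N • (gJ ≫ eps hJ) := by
    refine ObjectProperty.hom_ext _ (NatTrans.ext (funext fun V => ConcreteCategory.hom_ext _ _ fun s => ?_))
    let r : Γ(T, V.unop) := s
    refine congrArg Additive.ofMul (Units.ext ?_)
    show (1 : Γ(T, V.unop)) + idVal I ((natLift I a hIa).app V.unop r) =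
      ((onePlus hJ ((natLift J b hJb).app V.unop r)) ^ N : (Γ(T, V.unop))ˣ).1
    have hz : ∀ m : ℕ, ((onePlus hJ ((natLift J b hJb).app V.unop r)) ^ m : (Γ(T, V.unop))ˣ).1 =
        1 + (m : Γ(T, V.unop)) * idVal J ((natLift J b hJb).app V.unop r) := fun m => by
      induction m with
      | zero => simp
      | succ m ih =>
        rw [pow_succ, Units.val_mul, ih, Nat.cast_succ]
        show (1 + (m : Γ(T, V.unop)) * _) * (1 + _) = _
        linear_combination (m : Γ(T, V.unop)) * PicH1Lib.mul_eq_zero_of_sq_zero hJ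
          (PicH1Lib.app_idVal J ((natLift J b hJb).app V.unop r))
          (PicH1Lib.app_idVal J ((natLift J b hJb).app V.unop r))
    rw [hz, idVal_natLift, idVal_natLift, hab, Nat.cast_mul, mul_assoc]
  let cx := PicH1Lib.picX (X := T) (Additive.ofMul c)
  have hc' : PicH1Lib.H1map I.subschemeι cx = 0 := by
    rw [← PicH1Lib.picZ_pullHom hI hi, hc]
    exact map_zero _
  obtain ⟨v, hv⟩ := (PicH1Lib.H1map_eq_zero_iff hI cx).mp hc'
  obtain ⟨o, ho⟩ := surjective_H1 hd gI v
  let y : PicH1Lib.H1 (𝟙 T) := o.comp (Ext.mk₀ (gJ ≫ eps hJ)) (add_zero 1)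
  refine ⟨((PicH1Lib.picX (X := T)).symm y).toMul, ?_, ?_⟩
  · refine Additive.ofMul.injective ((PicH1Lib.picZ hJ).injective ?_)
    rw [PicH1Lib.picZ_pullHom hJ hj]
    refine Eq.trans ?_ (map_zero _).symm
    rw [ofMul_toMul, AddEquiv.apply_symm_apply, PicH1Lib.H1map_eq_zero_iff hJ]
    refine ⟨o.comp (Ext.mk₀ gJ) (add_zero 1), ?_⟩
    show (o.comp (Ext.mk₀ gJ) (add_zero 1)).comp (Ext.mk₀ (eps hJ)) (add_zero 1) = y
    rw [Ext.comp_assoc_of_second_deg_zero, Ext.mk₀_comp_mk₀]
  · refine Additive.ofMul.injective ((PicH1Lib.picX (X := T)).injective ?_)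
    rw [ofMul_pow, map_nsmul, ofMul_toMul, AddEquiv.apply_symm_apply]
    refine Eq.trans ?_ hv
    show N • y = v.comp (Ext.mk₀ (eps hI)) (add_zero 1)
    rw [← ho, Ext.comp_assoc_of_second_deg_zero, Ext.mk₀_comp_mk₀, key]
    show N • o.comp (Ext.mk₀ (gJ ≫ eps hJ)) (add_zero 1) = ((Ext.mk₀ (N • (gJ ≫ eps hJ))).postcomp _ (add_zero 1)) o
    exact (comp_mk₀_nsmul o (gJ ≫ eps hJ) N).symm

end PicThkLib
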