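import Groth.Agent.HomCohLib.FullyFaithful
import Groth.Agent.FormalCohLib.Proper
import Groth.Agent.PicLiftLib.System
import Groth.Agent.CohCmpLib.LiftSection
import Groth.Agent.PicPnLib.Rel
import Groth.Agent.S0002
import Mathlib.CategoryTheory.CofilteredSystem

/-!
# A line bundle trivial on all thickenings of a proper scheme over a complete ring with finite residue rings
-/

set_option autoImplicit false
set_option backward.isDefEq.respectTransparency false
set_option linter.style.haveILetI false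
universe u

open CategoryTheory CategoryTheory.Limits AlgebraicGeometry TopologicalSpace Opposite
open KFlatLib (pb puSec)

noncomputable section

namespace PicThkLib

variable {A : Type u} [CommRing A] [IsNoetherianRing A] {J : Ideal A}

/-- A finite module killed by an ideal with finite quotient ring is finite. -/
theorem finite_of_killed {M : Type*} [AddCommGroup M] [Module A M] [Module.Finite A M] (I : Ideal A)
    [Finite (A ⧸ I)] (h : ∀ a ∈ I, ∀ x : M, a • x = 0) : Finite M := by
  have hM : Module.IsTorsionBySet A M (I : Set A) := fun x a => h a.1 a.2 x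
  letI : Module (A ⧸ I) M := hM.module
  haveI : IsScalarTower A (A ⧸ I) M := hM.isScalarTower
  haveI : Module.Finite (A ⧸ I) M := Module.Finite.of_restrictScalars_finite A (A ⧸ I) M
  exact Module.finite_of_finite (A ⧸ I)

variable {X : Scheme.{u}} [X.Over (Spec (CommRingCat.of A))] [IsProper (X ↘ Spec (CommRingCat.of A))]

/-- The sections of an infinitesimal quotient of a coherent module are finite in number. -/
theorem finite_sections_modPow {N : ℕ} (hJ : J = Ideal.span {(N : A)}) (k : ℕ) [Finite (A ⧸ J ^ (k + 1))]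
    {M : X.Modules} (hM : Coh.IsCoh M) : Finite Γ(Formal.modPow J (k + 1) M, (⊤ : X.Opens)) := by
  haveI : IsLocallyNoetherian X := LocallyOfFiniteType.isLocallyNoetherian (X ↘ Spec (CommRingCat.of A))
  haveI : CompactSpace X := QuasiCompact.compactSpace_of_compactSpace (X ↘ Spec (CommRingCat.of A))
  haveI : AlgebraicGeometry.IsNoetherian X := {}
  let P := Formal.modPow J (k + 1) M
  have hP : Coh.IsCoh P := FormalCohLib.isCoh_modPow J hM (k + 1)
  haveI : Module.Finite A (Coh.HH X P 0) := Groth.Agent.S0002.result A X P hP 0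
  have hk : ∀ z : Γ(P, (⊤ : X.Opens)), (N ^ (k + 1)) • z = 0 := fun z => by
    have h := ConcreteCategory.congr_hom (congrArg (fun φ => Scheme.Modules.Hom.app φ (⊤ : X.Opens))
      (FormalCohLib.killedBy_modPow (k + 1) M ((N : A) ^ (k + 1))
        (Ideal.pow_mem_pow (hJ ▸ Ideal.mem_span_singleton_self _) (k + 1)))) z
    refine Eq.trans ?_ h
    show _ = FormalLib.rhoA A (⊤ : X.Opens) ((N : A) ^ (k + 1)) • z
    rw [map_pow, map_natCast, ← Nat.cast_pow, Nat.cast_smul_eq_nsmul]
  haveI : Finite (Coh.HH X P 0) := finite_of_killed (J ^ (k + 1)) fun a ha x => by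
    rw [hJ, Ideal.span_singleton_pow, Ideal.mem_span_singleton] at ha
    obtain ⟨c, rfl⟩ := ha
    rw [mul_comm, mul_smul]
    have : ((N : A) ^ (k + 1)) • x = 0 := by
      rw [← Nat.cast_pow, Nat.cast_smul_eq_nsmul]
      exact (HomCohLib.hh0 P).injective (by rw [map_nsmul, map_zero, hk])
    rw [this, smul_zero]
  exact Finite.of_equiv _ (HomCohLib.hh0 P).toEquiv

variable [IsLocalRing A] [IsAdicComplete J A]

omit [IsAdicComplete J A] in
/-- The transition map on projections. -/
theorem π_trans (M : X.Modules) (k : ℕ) (U : X.Opens) (m : Γ(M, U)) :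
    (Formal.modPowTrans J (k + 1) M).app U ((Formal.modPowπ J (k + 1 + 1) M).app U m) =
      (Formal.modPowπ J (k + 1) M).app U m :=
  ConcreteCategory.congr_hom (congrArg (fun φ => Scheme.Modules.Hom.app φ U)
    (Formal.modPowπ_trans J (k + 1) M)) m

/-- The sections which are generators near the closed fibre. -/
def Good (J : Ideal A) (M : X.Modules) (k : ℕ) (z : Γ(Formal.modPow J (k + 1) M, (⊤ : X.Opens))) : Prop :=
  ∀ x : X, J ≤ ((X ↘ Spec (CommRingCat.of A)) x).asIdeal → ∃ (U : X.Opens) (hx : x ∈ U) (m : Γ(M, U)),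
    AmpleLib.res (Formal.modPow J (k + 1) M) le_top z = (Formal.modPowπ J (k + 1) M).app U m ∧
      AmpleLib.GenAt M m hx

/-- **Injectivity into the limit.** An invertible module trivial on all thickenings is trivial. -/
theorem nonempty_iso_of_thick {N : ℕ} (hJ : J = Ideal.span {(N : A)}) (hmax : J = IsLocalRing.maximalIdeal A)
    [∀ k, Finite (A ⧸ J ^ (k + 1))] {L : X.Modules} (hL : PicF.IsInvertible L)
    (h : ∀ k, Nonempty (pb (CohB1.thickι (X ↘ Spec (CommRingCat.of A)) J k) L ≅
      Coh.structureModule (CohB1.thick (X ↘ Spec (CommRingCat.of A)) J k))) :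
    Nonempty (L ≅ Coh.structureModule X) := by
  let f := X ↘ Spec (CommRingCat.of A)
  haveI : IsLocallyNoetherian X := LocallyOfFiniteType.isLocallyNoetherian f
  haveI : CompactSpace X := QuasiCompact.compactSpace_of_compactSpace f
  haveI : AlgebraicGeometry.IsNoetherian X := {}
  have hc : Coh.IsCoh L := CurvLib.isCoh_of_isInvertible hL
  haveI := hc.1
  let η := fun k => (Scheme.Modules.pullbackPushforwardAdjunction (CohB1.thickι f J k)).unit.app L
  have hz := fun k b (hb : b ∈ J ^ (k + 1)) => PicLiftLib.toGlobal_eq_zero J f k hb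
  let φ : ∀ k, Formal.modPow J (k + 1) L ⟶
      (Scheme.Modules.pushforward (CohB1.thickι f J k)).obj (pb (CohB1.thickι f J k) L) := fun k =>
    cokernel.desc _ (η k) (GrSysLib.smulFamily_unit (CohB1.thickι f J k) (PicLiftLib.ι_over J f k) _ (hz k) L)
  have hφ : ∀ k, IsIso (φ k) := fun k => GrSysLib.isIso_desc_unit (CohB1.thickι f J k) (PicLiftLib.ι_over J f k) _
    (hz k) (PicLiftLib.ker_incl_le J f k) L
  have hπφ : ∀ k (U : X.Opens) (m : Γ(L, U)),
      (φ k).app U ((Formal.modPowπ J (k + 1) L).app U m) = puSec (CohB1.thickι f J k) m := fun k U m =>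
    ConcreteCategory.congr_hom (congrArg (fun ψ => Scheme.Modules.Hom.app ψ U) (cokernel.π_desc _ (η k) _)) m
  have hex : ∀ k, ∃ z, Good J L k z := fun k => by
    obtain ⟨e⟩ := h k
    obtain ⟨σ, hσ⟩ := PicPnLib.exists_genAt_of_iso e
    haveI := hφ k
    obtain ⟨z, hzσ⟩ := (ConcreteCategory.bijective_of_isIso ((φ k).app (⊤ : X.Opens))).2 σ
    refine ⟨z, fun x hx => ?_⟩
    obtain ⟨w, rfl⟩ := PicLiftLib.mem_range_incl J f k x hx
    obtain ⟨U₀, t, hwU₀, ht⟩ := TwistLib.exists_genOn hL (CohB1.thickι f J k w)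
    obtain ⟨U, hU, hwU, hUU₀⟩ := exists_isAffineOpen_mem_and_subset hwU₀
    let t' := AmpleLib.res L hUU₀ t
    have ht' : AmpleLib.GenOn L t' := ht.res hUU₀
    have hpt : AmpleLib.GenAt (pb (CohB1.thickι f J k) L) (W := CohB1.thickι f J k ⁻¹ᵁ U)
        (puSec (CohB1.thickι f J k) t') hwU := TwistLib.GenAt.puSec _ (ht'.genAt hwU)
    have hgo : AmpleLib.GenOn (pb (CohB1.thickι f J k) L) (W := CohB1.thickι f J k ⁻¹ᵁ U)
        (puSec (CohB1.thickι f J k) t') :=
      TwistLib.genOn_of_genAt fun v hv => TwistLib.GenAt.puSec _ (ht'.genAt hv)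
    let σU := AmpleLib.res (pb (CohB1.thickι f J k) L) (le_top : CohB1.thickι f J k ⁻¹ᵁ U ≤ ⊤) σ
    obtain ⟨r, hr⟩ := (hgo _ le_rfl).2 σU
    dsimp only at hr
    rw [AmpleLib.res_refl] at hr
    obtain ⟨R, hR⟩ := (CohB1.thickι f J k).app_surjective U hU r
    have hm : puSec (CohB1.thickι f J k) (R • t') = σU := by
      rw [KFlatLib.puSec_smul, hR]
      exact hr
    refine ⟨U, hwU, R • t', (ConcreteCategory.bijective_of_isIso ((φ k).app U)).1 ?_, ?_⟩
    · refine ((QCohLib.app_map (φ k) (homOfLE (le_top : U ≤ ⊤)) z).trans ?_).trans (hπφ k U (R • t')).symm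
      rw [hm, hzσ]
      rfl
    · refine CohCmpLib.genAt_of_puSec (CohB1.thickι f J k) hL (R • t') hwU ?_
      rw [hm]
      exact (AmpleLib.genAt_res _ σ (show w ∈ CohB1.thickι f J k ⁻¹ᵁ U from hwU)).2 (hσ w)
  let S : ℕ → Type u := fun k => {z : Γ(Formal.modPow J (k + 1) L, (⊤ : X.Opens)) // Good J L k z}
  have htr : ∀ k (z : S (k + 1)), Good J L k ((Formal.modPowTrans J (k + 1) L).app ⊤ z.1) := fun k z x hx => by
    obtain ⟨U, hxU, m, hm, hg⟩ := z.2 x hx
    refine ⟨U, hxU, m, ?_, hg⟩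
    refine (QCohLib.app_map (Formal.modPowTrans J (k + 1) L) (homOfLE (le_top : U ≤ ⊤)) z.1).symm.trans ?_
    exact (congrArg ((Formal.modPowTrans J (k + 1) L).app U) hm).trans (π_trans L k U m)
  let F : ℕᵒᵖ ⥤ Type u := Functor.ofOpSequence (X := S) fun k => ↾ fun z => ⟨_, htr k z⟩
  haveI : ∀ j : ℕᵒᵖ, Finite (F.obj j) := fun j =>
    haveI := finite_sections_modPow (X := X) hJ j.unop hc
    inferInstanceAs (Finite (S j.unop))
  haveI : ∀ j : ℕᵒᵖ, Nonempty (F.obj j) := fun j => let ⟨z, hz⟩ := hex j.unop; ⟨⟨z, hz⟩⟩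
  obtain ⟨v, hv⟩ := nonempty_sections_of_finite_cofiltered_system F
  have hs : ClSub.IsProperOver f (CohB1.support L) :=
    ⟨QCohLib.isClosed_support L hc.2, inferInstance⟩
  obtain ⟨s, hs', -⟩ := HomCohLib.existsUnique_section J hc hs (fun k => (v (op k)).1) fun k => by
    have := hv (homOfLE (Nat.le_succ k)).op
    rw [show F.map (homOfLE (Nat.le_succ k)).op = ↾ fun z => ⟨_, htr k z⟩ from
      Functor.ofOpSequence_map_homOfLE_succ _ k] at this
    exact congrArg Subtype.val this
  have hG : ∀ x : X, J ≤ (f x).asIdeal → AmpleLib.GenAt L s (show x ∈ (⊤ : X.Opens) from trivial) := fun x hx => by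
    obtain ⟨U, hxU, m, hm, hg⟩ := (v (op 0)).2 x hx
    obtain ⟨w, rfl⟩ := PicLiftLib.mem_range_incl J f 0 x hx
    refine (AmpleLib.genAt_res (le_top : U ≤ ⊤) s hxU).1
      (CohCmpLib.genAt_of_puSec (CohB1.thickι f J 0) hL _ hxU ?_)
    have e : puSec (CohB1.thickι f J 0) (AmpleLib.res L (le_top : U ≤ ⊤) s) = puSec (CohB1.thickι f J 0) m := by
      rw [← hπφ 0 U, ← hπφ 0 U, ← hm, ← hs' 0]
      exact congrArg ((φ 0).app U) (QCohLib.app_map (Formal.modPowπ J 1 L) (homOfLE (le_top : U ≤ ⊤)) s)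
    rw [e]
    exact TwistLib.GenAt.puSec _ hg
  refine PicPnLib.nonempty_iso_of_genAt s fun x => by_contra fun hx => ?_
  let G := TwistLib.genSet hL s
  have hC : IsClosed (f '' (G : Set X)ᶜ) := f.isClosedMap _ G.2.isClosed_compl
  have hmem : IsLocalRing.closedPoint A ∈ f '' (G : Set X)ᶜ :=
    (IsLocalRing.specializes_closedPoint (f x)).mem_closed hC ⟨x, hx, rfl⟩
  obtain ⟨y, hy, hy'⟩ := hmem
  exact hy (hG y (by rw [hy', hmax]; exact le_rfl))

end PicThkLib
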