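import Groth.Agent.PicThkLib.Root
import Groth.Agent.PicThkLib.Sec
import Groth.Agent.PicAlgzLib.System
import Groth.Agent.PicH1Lib.Lift
import Groth.Agent.PicH1Lib.NestedSeq
import Groth.Agent.FibDimLib.TopLocalDim
import Groth.Agent.FibDimLib.Smooth
import Groth.Agent.SmoothDimLib.Chart
import Groth.Agent.CurvLib.SupportVanish

/-!
# The tower of thickenings of a relative curve over a complete discrete valuation ring with finite residue field
-/

set_option autoImplicit false
set_option backward.isDefEq.respectTransparency false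
set_option linter.style.haveILetI false
set_option linter.unusedSectionVars false
universe u

open CategoryTheory CategoryTheory.Limits AlgebraicGeometry TopologicalSpace Opposite
open KFlatLib (pb)

noncomputable section

namespace PicThkLib

theorem dim_fiber_le {P S : Scheme.{u}} (π : P ⟶ S) (n : ℕ) [SmoothOfRelativeDimension n π] (s : S) :
    topologicalKrullDim ↥(π.fiber s) ≤ (n : WithBot ℕ∞) := by
  haveI := smoothOfRelativeDimension_isStableUnderBaseChange (n := n)
  haveI : SmoothOfRelativeDimension n (π.fiberToSpecResidueField s) :=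
    MorphismProperty.pullback_snd (P := @SmoothOfRelativeDimension n) _ _ ‹_›
  haveI : Smooth (π.fiberToSpecResidueField s) := SmoothOfRelativeDimension.smooth n _
  rw [FibDimLib.topologicalKrullDim_eq_iSup_localDim]
  exact iSup_le fun x => ((SmoothDimLib.fibreDimAt_eq_localDim (π.fiberToSpecResidueField s) x).symm.trans
    (FibDimLib.fibreDimAt_smoothOfRelativeDimension n (π.fiberToSpecResidueField s) x)).le

variable {A : Type u} [CommRing A] {X : Scheme.{u}} (f : X ⟶ Spec (CommRingCat.of A)) (p : ℕ)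

theorem trans_ι (n : ℕ) : (CohB1.thickTrans f (Ideal.span {(p : A)}) (n)) ≫ (CohB1.thickι f (Ideal.span {(p : A)}) (n + 1)) = (CohB1.thickι f (Ideal.span {(p : A)}) (n)) := PicLiftLib.trans_ι (Ideal.span {(p : A)}) f n

instance isClosedImmersion_trans (n : ℕ) : IsClosedImmersion (CohB1.thickTrans f (Ideal.span {(p : A)}) (n)) := by
  haveI : IsClosedImmersion ((CohB1.thickTrans f (Ideal.span {(p : A)}) (n)) ≫ (CohB1.thickι f (Ideal.span {(p : A)}) (n + 1))) := by rw [trans_ι]; infer_instance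
  exact IsClosedImmersion.of_comp _ (CohB1.thickι f (Ideal.span {(p : A)}) (n + 1))

theorem natCast_eq_zero (a : ℕ) (V : (CohB1.thick f (Ideal.span {(p : A)}) a).Opens) :
    ((p ^ (a + 1) : ℕ) : Γ(CohB1.thick f (Ideal.span {(p : A)}) a, V)) = 0 := by
  have h := PicLiftLib.toGlobal_eq_zero (Ideal.span {(p : A)}) f a (b := ((p ^ (a + 1) : ℕ) : A))
    (by rw [Nat.cast_pow]; exact Ideal.pow_mem_pow (Ideal.mem_span_singleton_self _) (a + 1))
  rw [map_natCast] at h
  have h2 := congrArg ((CohB1.thick f (Ideal.span {(p : A)}) a).presheaf.map (homOfLE (le_top : V ≤ ⊤)).op).hom h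
  exact (map_natCast _ _).symm.trans (h2.trans (map_zero _))

theorem local_multiple {a b : ℕ} (j : CohB1.thick f (Ideal.span {(p : A)}) a ⟶ CohB1.thick f (Ideal.span {(p : A)}) b) (hj : j ≫ (CohB1.thickι f (Ideal.span {(p : A)}) (b)) = (CohB1.thickι f (Ideal.span {(p : A)}) (a)))
    {V : (CohB1.thick f (Ideal.span {(p : A)}) b).Opens} (s : Γ(CohB1.thick f (Ideal.span {(p : A)}) b, V)) (hs : j.app V s = 0)
    (x : CohB1.thick f (Ideal.span {(p : A)}) b) (hx : x ∈ V) :
    ∃ (W : (CohB1.thick f (Ideal.span {(p : A)}) b).Opens) (hW : W ≤ V), x ∈ W ∧ ∃ q : Γ(CohB1.thick f (Ideal.span {(p : A)}) b, W),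
      (CohB1.thick f (Ideal.span {(p : A)}) b).presheaf.map (homOfLE hW).op s = ((p ^ (a + 1) : ℕ) : Γ(CohB1.thick f (Ideal.span {(p : A)}) b, W)) * q := by
  letI : X.Over (Spec (CommRingCat.of A)) := ⟨f⟩
  obtain ⟨O, hO, hOV⟩ := (Scheme.Hom.isClosedEmbedding (CohB1.thickι f (Ideal.span {(p : A)}) (b))).isInducing.isOpen_iff.mp V.isOpen
  have hxO : (CohB1.thickι f (Ideal.span {(p : A)}) (b)) x ∈ (⟨O, hO⟩ : X.Opens) := show x ∈ (CohB1.thickι f (Ideal.span {(p : A)}) (b)) ⁻¹' O by rw [hOV]; exact hx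
  obtain ⟨U, hU, hxU, hUO⟩ := exists_isAffineOpen_mem_and_subset hxO
  have hW : (CohB1.thickι f (Ideal.span {(p : A)}) (b)) ⁻¹ᵁ U ≤ V := fun z hz => by
    have : z ∈ (CohB1.thickι f (Ideal.span {(p : A)}) (b)) ⁻¹' O := hUO hz
    rw [hOV] at this
    exact this
  obtain ⟨S, hS⟩ := (CohB1.thickι f (Ideal.span {(p : A)}) (b)).app_surjective U hU ((CohB1.thick f (Ideal.span {(p : A)}) b).presheaf.map (homOfLE hW).op s)
  have h0 : (j ≫ (CohB1.thickι f (Ideal.span {(p : A)}) (b))).app U S = 0 := by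
    refine (PicH1Lib.app_comp_apply (CohB1.thickι f (Ideal.span {(p : A)}) (b)) j S).trans ?_
    rw [hS]
    refine (congr($(j.naturality (homOfLE hW).op).hom s)).trans ?_
    show ((CohB1.thick f (Ideal.span {(p : A)}) a).presheaf.map _).hom (j.app V s) = 0
    rw [hs]
    exact map_zero _
  haveI : IsClosedImmersion (j ≫ (CohB1.thickι f (Ideal.span {(p : A)}) (b))) := by rw [hj]; infer_instance
  have hmem : S ∈ ((CohB1.thickι f (Ideal.span {(p : A)}) (a))).ker.ideal ⟨U, hU⟩ := by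
    rw [← congrArg (fun g => Scheme.Hom.ker g) hj, Scheme.Hom.ker_apply, RingHom.mem_ker]
    exact h0
  have hmem' := PicLiftLib.ker_incl_le (Ideal.span {(p : A)}) f a ⟨U, hU⟩ hmem
  rw [Ideal.span_singleton_pow, Ideal.map_span, Set.image_singleton, Ideal.mem_span_singleton, map_pow,
    map_natCast] at hmem'
  obtain ⟨B, hB⟩ := hmem'
  refine ⟨(CohB1.thickι f (Ideal.span {(p : A)}) (b)) ⁻¹ᵁ U, hW, hxU, (CohB1.thickι f (Ideal.span {(p : A)}) (b)).app U B, ?_⟩
  rw [← hS, hB, map_mul, ← Nat.cast_pow, map_natCast]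

theorem ker_sq {a b : ℕ} (hab : b + 1 ≤ 2 * (a + 1)) (j : CohB1.thick f (Ideal.span {(p : A)}) a ⟶ CohB1.thick f (Ideal.span {(p : A)}) b)
    [IsClosedImmersion j] (hj : j ≫ (CohB1.thickι f (Ideal.span {(p : A)}) (b)) = (CohB1.thickι f (Ideal.span {(p : A)}) (a))) : j.ker * j.ker = ⊥ := by
  refine Scheme.IdealSheafData.ext (funext fun U => ?_)
  rw [Scheme.IdealSheafData.ideal_mul, Scheme.IdealSheafData.ideal_bot, Pi.mul_apply, Pi.bot_apply, ← le_bot_iff,
    Ideal.mul_le]
  intro s hs s' hs'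
  rw [Scheme.Hom.ker_apply, RingHom.mem_ker] at hs hs'
  rw [Ideal.mem_bot]
  refine TopCat.Presheaf.section_ext (CohB1.thick f (Ideal.span {(p : A)}) b).sheaf U.1 _ _ fun x hx => ?_
  obtain ⟨W, hW, hxW, q, hq⟩ := local_multiple f p j hj s hs x hx
  obtain ⟨W', hW', hxW', q', hq'⟩ := local_multiple f p j hj s' hs' x hx
  let Z := (CohB1.thick f (Ideal.span {(p : A)}) b)
  have key : Z.presheaf.map (homOfLE (inf_le_left.trans hW : W ⊓ W' ≤ U.1)).op (s * s') = 0 := by
    have e1 : Z.presheaf.map (homOfLE (inf_le_left.trans hW : W ⊓ W' ≤ U.1)).op s =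
        ((p ^ (a + 1) : ℕ) : Γ(Z, W ⊓ W')) * Z.presheaf.map (homOfLE (inf_le_left : W ⊓ W' ≤ W)).op q := by
      rw [← homOfLE_comp inf_le_left hW, op_comp, Functor.map_comp, CommRingCat.comp_apply, hq, map_mul, map_natCast]
    have e2 : Z.presheaf.map (homOfLE (inf_le_left.trans hW : W ⊓ W' ≤ U.1)).op s' =
        ((p ^ (a + 1) : ℕ) : Γ(Z, W ⊓ W')) * Z.presheaf.map (homOfLE (inf_le_right : W ⊓ W' ≤ W')).op q' := by
      rw [show homOfLE (inf_le_left.trans hW : W ⊓ W' ≤ U.1) = homOfLE (inf_le_right : W ⊓ W' ≤ W') ≫ homOfLE hW'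
        from rfl, op_comp, Functor.map_comp, CommRingCat.comp_apply, hq', map_mul, map_natCast]
    rw [map_mul, e1, e2, mul_mul_mul_comm, ← Nat.cast_mul, ← pow_add,
      show a + 1 + (a + 1) = b + 1 + (2 * (a + 1) - (b + 1)) by omega, pow_add, Nat.cast_mul, natCast_eq_zero,
      zero_mul, zero_mul]
  show Z.presheaf.germ U.1 x hx (s * s') = Z.presheaf.germ U.1 x hx 0
  exact (TopCat.Presheaf.germ_res_apply Z.presheaf (homOfLE (inf_le_left.trans hW : W ⊓ W' ≤ U.1)) x ⟨hxW, hxW'⟩
    (s * s')).symm.trans ((congrArg _ key).trans ((map_zero _).trans (map_zero _).symm))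

section Pic

variable [∀ n, PicGrp.Law (CohB1.thick f (Ideal.span {(p : A)}) n)]

/-- Restriction between adjacent thickenings. -/
abbrev T (n : ℕ) : PicLoc.PicSet (CohB1.thick f (Ideal.span {(p : A)}) (n + 1)) →* PicLoc.PicSet (CohB1.thick f (Ideal.span {(p : A)}) n) :=
  PicGrp.pullHom (CohB1.thickTrans f (Ideal.span {(p : A)}) (n)) (VertChiLib.pullMul _)

variable [PicGrp.Law X]

/-- Restriction to a thickening. -/
abbrev R (n : ℕ) : PicLoc.PicSet X →* PicLoc.PicSet (CohB1.thick f (Ideal.span {(p : A)}) n) :=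
  PicGrp.pullHom (CohB1.thickι f (Ideal.span {(p : A)}) (n)) (VertChiLib.pullMul _)

theorem T_R (n : ℕ) (c : PicLoc.PicSet X) : T f p n (R f p (n + 1) c) = R f p n c := by
  refine Subtype.ext ?_
  show PicF.pullCl (CohB1.thickTrans f (Ideal.span {(p : A)}) (n)) (PicF.pullCl (CohB1.thickι f (Ideal.span {(p : A)}) (n + 1)) c.1) = PicF.pullCl (CohB1.thickι f (Ideal.span {(p : A)}) (n)) c.1
  rw [← PicLoc.pullCl_comp, trans_ι]

theorem R_eq_one_of_le {a b : ℕ} (h : a ≤ b) {c : PicLoc.PicSet X} (hc : R f p b c = 1) : R f p a c = 1 := by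
  induction h with
  | refl => exact hc
  | @step m _ ih => exact ih (by rw [← T_R, hc, map_one])

variable [IsNoetherianRing A] [IsLocalRing A] [IsProper f] [SmoothOfRelativeDimension 1 f]
  (hmax : ((Ideal.span {(p : A)}) : Ideal A) = IsLocalRing.maximalIdeal A)

include hmax in
theorem dim_thick_le (n : ℕ) : topologicalKrullDim (CohB1.thick f (Ideal.span {(p : A)}) n) ≤ 1 := by
  have hmem : ∀ z, (CohB1.thickι f (Ideal.span {(p : A)}) (n)) z ∈ f ⁻¹' {IsLocalRing.closedPoint A} := fun z => by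
    show f ((CohB1.thickι f (Ideal.span {(p : A)}) (n)) z) = IsLocalRing.closedPoint A
    rw [← Scheme.Hom.comp_apply, show (CohB1.thickι f (Ideal.span {(p : A)}) (n)) ≫ f = CohB1.thickToBase f (Ideal.span {(p : A)}) n ≫ CohB1.specQuot (Ideal.span {(p : A)}) n from pullback.condition,
      Scheme.Hom.comp_apply]
    refine PrimeSpectrum.ext ?_
    refine ((IsLocalRing.maximalIdeal.isMaximal A).eq_of_le (PrimeSpectrum.isPrime _).ne_top ?_).symm
    rw [← hmax]
    refine (PrimeSpectrum.isPrime _).le_of_pow_le (n := n + 1) fun a ha => ?_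
    show Ideal.Quotient.mk ((Ideal.span {(p : A)}) ^ (n + 1)) a ∈ (CohB1.thickToBase f (Ideal.span {(p : A)}) n z).asIdeal
    rw [Ideal.Quotient.eq_zero_iff_mem.2 ha]
    exact Ideal.zero_mem _
  let g : CohB1.thick f (Ideal.span {(p : A)}) n → (f ⁻¹' {IsLocalRing.closedPoint A} : Set X) := fun z => ⟨(CohB1.thickι f (Ideal.span {(p : A)}) (n)) z, hmem z⟩
  have hg : Topology.IsInducing ((f.fiberHomeo (IsLocalRing.closedPoint A)).symm ∘ g) :=
    (f.fiberHomeo (IsLocalRing.closedPoint A)).symm.isInducing.comp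
      ((Scheme.Hom.isClosedEmbedding (CohB1.thickι f (Ideal.span {(p : A)}) (n))).isInducing.codRestrict hmem)
  exact hg.topologicalKrullDim_le.trans (dim_fiber_le f 1 _)

theorem noetherianSpace_thick (n : ℕ) : NoetherianSpace (CohB1.thick f (Ideal.span {(p : A)}) n) := by
  haveI : IsLocallyNoetherian X := LocallyOfFiniteType.isLocallyNoetherian f
  haveI : CompactSpace X := QuasiCompact.compactSpace_of_compactSpace f
  haveI : AlgebraicGeometry.IsNoetherian X := {}
  exact (Scheme.Hom.isClosedEmbedding (CohB1.thickι f (Ideal.span {(p : A)}) (n))).isInducing.noetherianSpace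

include hmax in
/-- Line bundles lift to the next thickening. -/
theorem T_surjective (n : ℕ) : Function.Surjective (T f p n) := fun c => by
  haveI := noetherianSpace_thick f p (n + 1)
  obtain ⟨N, hN, rfl⟩ := PicGrp.exists_eq_cls c
  obtain ⟨L, hL, ⟨e⟩⟩ := PicH1Lib.exists_pullback_iso (CohB1.thickTrans f (Ideal.span {(p : A)}) (n)) (ker_sq f p (by omega) (CohB1.thickTrans f (Ideal.span {(p : A)}) (n)) (trans_ι f p n))
    (CurvLib.subsingleton_HH_of_dim_le _ (dim_thick_le f p hmax (n + 1)) 2 one_lt_two) hN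
  exact ⟨PicGrp.cls L hL, Subtype.ext (Quot.sound ⟨e⟩)⟩

variable [IsAdicComplete ((Ideal.span {(p : A)}) : Ideal A) A]

include hmax in
/-- Compatible classes come from the scheme. -/
theorem exists_R_eq (y : ∀ n, PicLoc.PicSet (CohB1.thick f (Ideal.span {(p : A)}) n)) (hy : ∀ n, T f p n (y (n + 1)) = y n) :
    ∃ c, ∀ n, R f p n c = y n := by
  letI : X.Over (Spec (CommRingCat.of A)) := ⟨f⟩
  haveI : IsProper (X ↘ Spec (CommRingCat.of A)) := ‹IsProper f›
  choose L hL hc using fun n => PicGrp.exists_eq_cls (y n)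
  have hψ : ∀ n, Nonempty ((Scheme.Modules.pullback (CohB1.thickTrans f (Ideal.span {(p : A)}) (n))).obj (L (n + 1)) ≅ L n) := fun n => by
    have h := hy n
    rw [hc n, hc (n + 1), PicGrp.pullHom_cls, PicGrp.cls_eq_cls_iff] at h
    exact h
  have hG := PicLiftLib.isCohFormal_sys (Ideal.span {(p : A)}) f L (fun n => (hψ n).some) hL
  obtain ⟨M, hM, ⟨φ⟩⟩ := FormalCohLib.exists_algebraisation_proper (Ideal.span {(p : A)}) X hG
  haveI := hM.1
  have he := fun n => PicLiftLib.nonempty_pullback_iso (Ideal.span {(p : A)}) f L (fun n => (hψ n).some) φ n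
  have hMi : PicF.IsInvertible M := by
    have key : ∀ (m : Ideal A), m = IsLocalRing.maximalIdeal A →
        ∀ (L : ∀ n, (CohB1.thick f m n).Modules), (∀ n, PicF.IsInvertible (L n)) →
        (∀ n, Nonempty ((Scheme.Modules.pullback (CohB1.thickι f m n)).obj M ≅ L n)) → PicF.IsInvertible M := by
      rintro m rfl L' hL' he'
      exact PicAlgzLib.isInvertible_of_thickenings f hM L' hL' he'
    exact key _ hmax L hL he
  refine ⟨PicGrp.cls M hMi, fun n => ?_⟩
  rw [hc n, PicGrp.pullHom_cls, PicGrp.cls_eq_cls_iff]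
  exact he n

/-- A compatible family through a given element of an inverse system with surjective transition maps. -/
theorem exists_compat : ∀ (n : ℕ) (M : ℕ → Type (u + 1)) (t : ∀ m, M (m + 1) → M m),
    (∀ m, Function.Surjective (t m)) → ∀ x : M n, ∃ y : ∀ m, M m, (∀ m, t m (y (m + 1)) = y m) ∧ y n = x
  | 0, M, t, ht, x => ⟨fun m => m.rec x fun m ym => (ht m ym).choose, fun m => (ht m _).choose_spec, rfl⟩
  | n + 1, M, t, ht, x => by
    obtain ⟨y, hy, hx⟩ := exists_compat n (fun m => M (m + 1)) (fun m => t (m + 1)) (fun m => ht (m + 1)) x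
    refine ⟨fun m => m.casesOn (t 0 (y 0)) y, fun m => ?_, hx⟩
    cases m with
    | zero => rfl
    | succ m => exact hy m

include hmax in
theorem R_surjective (n : ℕ) : Function.Surjective (R f p n) := fun x => by
  obtain ⟨y, hy, hx⟩ := exists_compat n (fun m => PicLoc.PicSet (CohB1.thick f (Ideal.span {(p : A)}) m)) (fun m => T f p m)
    (T_surjective f p hmax) x
  obtain ⟨c, hc⟩ := exists_R_eq f p hmax y hy
  exact ⟨c, (hc n).trans hx⟩

variable [∀ k, Finite (A ⧸ ((Ideal.span {(p : A)}) : Ideal A) ^ (k + 1))]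

include hmax in
theorem eq_one_of_R {c : PicLoc.PicSet X} (h : ∀ n, R f p n c = 1) : c = 1 := by
  letI : X.Over (Spec (CommRingCat.of A)) := ⟨f⟩
  haveI : IsProper (X ↘ Spec (CommRingCat.of A)) := ‹IsProper f›
  obtain ⟨L, hL, rfl⟩ := PicGrp.exists_eq_cls c
  rw [PicGrp.cls_eq_one_iff]
  refine nonempty_iso_of_thick (J := (Ideal.span {(p : A)})) (N := p) rfl hmax hL fun k => ?_
  have hk := h k
  rw [PicGrp.pullHom_cls, PicGrp.cls_eq_one_iff] at hk
  exact hk

include hmax in
/-- The root step on a thickening. -/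
theorem exists_step {m : ℕ} (hm : 1 ≤ m) {d : PicLoc.PicSet X} (hd : R f p (m + 1) d = 1) :
    ∃ e : PicLoc.PicSet X, R f p m e = 1 ∧ R f p (m + 2) (d / e ^ p) = 1 := by
  let tI := (CohB1.thickTrans f (Ideal.span {(p : A)}) (m + 1))
  let tJ := (CohB1.thickTrans f (Ideal.span {(p : A)}) (m)) ≫ (CohB1.thickTrans f (Ideal.span {(p : A)}) (m + 1))
  have hI : tI ≫ (CohB1.thickι f (Ideal.span {(p : A)}) (m + 2)) = (CohB1.thickι f (Ideal.span {(p : A)}) (m + 1)) := trans_ι f p (m + 1)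
  have hJ : tJ ≫ (CohB1.thickι f (Ideal.span {(p : A)}) (m + 2)) = (CohB1.thickι f (Ideal.span {(p : A)}) (m)) := by
    show ((CohB1.thickTrans f (Ideal.span {(p : A)}) (m)) ≫ (CohB1.thickTrans f (Ideal.span {(p : A)}) (m + 1))) ≫ (CohB1.thickι f (Ideal.span {(p : A)}) (m + 2)) = (CohB1.thickι f (Ideal.span {(p : A)}) (m))
    rw [Category.assoc, trans_ι f p (m + 1), trans_ι f p m]
  haveI := noetherianSpace_thick f p (m + 2)
  letI := VertChiLib.picLaw tI.ker.subscheme
  letI := VertChiLib.picLaw tJ.ker.subscheme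
  let c := R f p (m + 2) d
  have hc : PicGrp.pullHom tI.ker.subschemeι (VertChiLib.pullMul _) c = 1 :=
    pullHom_ker_eq_one tI (VertChiLib.pullMul _) (VertChiLib.pullMul _) (by
      show T f p (m + 1) (R f p (m + 2) d) = 1
      rw [T_R, hd])
  have hz : ∀ {a : ℕ} (t : CohB1.thick f (Ideal.span {(p : A)}) a ⟶ CohB1.thick f (Ideal.span {(p : A)}) (m + 2)) [IsClosedImmersion t]
      (V : (CohB1.thick f (Ideal.span {(p : A)}) (m + 2)).Opens), t.ker.subschemeι.app V ((p ^ (a + 1) : ℕ) : Γ(CohB1.thick f (Ideal.span {(p : A)}) (m + 2), V)) = 0 :=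
    fun t _ V => (PicH1Lib.app_eq_zero_iff t _).mp (by rw [map_natCast, natCast_eq_zero])
  obtain ⟨e', he, hep⟩ := exists_root (ker_sq f p (by omega) tI hI) (ker_sq f p (by omega) tJ hJ)
    (dim_thick_le f p hmax (m + 2)) (p ^ (m + 1 + 1)) p (p ^ (m + 1)) (pow_succ' p (m + 1)) (hz tI) (hz tJ)
    (fun V s hs x hx => local_multiple f p tI hI s ((PicH1Lib.app_eq_zero_iff tI s).mpr hs) x hx)
    (VertChiLib.pullMul _) (VertChiLib.pullMul _) hc
  obtain ⟨e, rfl⟩ := R_surjective f p hmax (m + 2) e'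
  refine ⟨e, ?_, by rw [map_div, map_pow, hep, div_self']⟩
  rw [← T_R, ← T_R]
  refine (PicGrp.pullHom_comp_apply (CohB1.thickTrans f (Ideal.span {(p : A)}) (m)) (CohB1.thickTrans f (Ideal.span {(p : A)}) (m + 1)) _ _ (VertChiLib.pullMul _) _).symm.trans ?_
  obtain ⟨L, hL, hLc⟩ := PicGrp.exists_eq_cls (R f p (m + 2) e)
  rw [hLc] at he ⊢
  rw [PicGrp.pullHom_cls, PicGrp.cls_eq_one_iff] at he ⊢
  obtain ⟨i⟩ := he
  exact ⟨((Scheme.Modules.pullbackCongr tJ.toImage_imageι).app L).symm ≪≫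
    ((Scheme.Modules.pullbackComp _ _).app L).symm ≪≫ (Scheme.Modules.pullback tJ.toImage).mapIso i ≪≫
    KFlatLib.pullUnitIso tJ.toImage⟩

include hmax in
/-- A class trivial on the `(m+1)`st thickening is a `p`th power of one trivial on the `m`th. -/
theorem exists_root_class {m : ℕ} (hm : 1 ≤ m) {d : PicLoc.PicSet X} (hd : R f p (m + 1) d = 1) :
    ∃ e : PicLoc.PicSet X, e ^ p = d ∧ R f p m e = 1 := by
  let St : ℕ → Type (u + 1) := fun j => {P : PicLoc.PicSet X // R f p (m + 1 + j) (d / P ^ p) = 1}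
  have hstep : ∀ j (P : St j), ∃ P' : St (j + 1), R f p (m + j) (P'.1 / P.1) = 1 := fun j P => by
    obtain ⟨e, he, hd'⟩ := exists_step f p hmax (m := m + j) (by omega) (d := d / P.1 ^ p)
      (by rw [show m + j + 1 = m + 1 + j by omega]; exact P.2)
    refine ⟨⟨P.1 * e, ?_⟩, by rwa [mul_div_cancel_left]⟩
    rw [show m + 1 + (j + 1) = m + j + 2 by omega, mul_pow, ← div_div]
    exact hd'
  let P : ∀ j, St j := fun j => j.rec ⟨1, by rw [one_pow, div_one]; exact hd⟩ fun j Pj => (hstep j Pj).choose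
  have hP : ∀ j, R f p (m + j) ((P (j + 1)).1 / (P j).1) = 1 := fun j => (hstep j (P j)).choose_spec
  obtain ⟨e, he⟩ := exists_R_eq f p hmax (fun n => R f p n (P n).1) fun n => by
    rw [T_R]
    have := R_eq_one_of_le f p (show n ≤ m + n by omega) (hP n)
    rw [map_div, div_eq_one] at this
    exact this
  refine ⟨e, ?_, ?_⟩
  · refine (div_eq_one.mp (eq_one_of_R f p hmax fun n => ?_)).symm
    rw [map_div, map_pow, he, ← map_pow, ← map_div]
    exact R_eq_one_of_le f p (show n ≤ m + 1 + n by omega) (P n).2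
  · have h : ∀ j, R f p m (P j).1 = 1 := fun j => by
      induction j with
      | zero => exact map_one _
      | succ j ih =>
        have := R_eq_one_of_le f p (show m ≤ m + j by omega) (hP j)
        rwa [map_div, ih, div_one] at this
    rw [he, h]

include hmax in
theorem exists_pow_root : ∀ (i : ℕ) {d : PicLoc.PicSet X}, R f p (1 + i) d = 1 →
    ∃ e : PicLoc.PicSet X, e ^ (p ^ i) = d ∧ R f p 1 e = 1
  | 0, d, hd => ⟨d, by rw [pow_zero, pow_one], hd⟩
  | i + 1, d, hd => by
    obtain ⟨e, he, he'⟩ := exists_root_class f p hmax (m := 1 + i) (by omega) hd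
    obtain ⟨g, hg, hg'⟩ := exists_pow_root i he'
    exact ⟨g, by rw [pow_succ, pow_mul, hg, he], hg'⟩

end Pic

end PicThkLib
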